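import Cfsg.Agent.H590.NB.J4Cert
import Cfsg.Agent.H859.BigNum
import Cfsg.Agent.H859.BigPrime
import Cfsg.Agent.H978.NB.Char
import Cfsg.Agent.H723.Spor.MOrders
import Cfsg.Agent.H49.JFourThree
import Cfsg.Agent.Blocks.CyclicUpper

/-!
# The fourth Janko group has a nonprincipal `p`-block, `p` odd (helper590, S5003)

`p = 3, 7, 11, 23, 29, 31, 37, 43` : a character of `p`-defect zero, by the sieve for the degrees with the columns
of the primes 23, 29, 31, 37, 43. `p = 5` : there is an element of order 15.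
-/

set_option autoImplicit false

namespace Cfsg.Agent.H590.NB.J4

open Cfsg Subgroup Cfsg.Agent.Characters.Core Cfsg.Agent.H653.Sys Cfsg.Agent.H653.Sieve Cfsg.Agent.H653.Graph
open Cfsg.Agent.H7.NBp Cfsg.Agent.H718.NBIH

universe u

/-- the context -/
theorem ctx [Fintype (IrrCharacter Spor.J4)] : Ctx Spor.J4 (fun g => orderOf g) N L (Ds.map PD.fam) [] := by
  have hs : IsSimpleGroup Spor.J4 := Cfsg.Agent.H859.BigPrime.isJ4.1
  have hf : Finite Spor.J4 := Cfsg.Agent.H858.FixJ4.facts.1
  have hc : Nat.card Spor.J4 = 86775571046077562880 := Cfsg.Agent.H858.FixJ4.card_J4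
  have key : ∀ q : ℕ, q.Prime → q ∣ 86775571046077562880 →
      (∀ P : Subgroup Spor.J4, Nat.card P = q → Nat.card (centralizer (P : Set Spor.J4)) = q) →
      ∃ x : Spor.J4, orderOf x = q ∧ Nat.card (centralizer ({x} : Set Spor.J4)) = q * 1 := by
    intro q hq hd h
    have := Fact.mk hq
    obtain ⟨x, hx⟩ := exists_prime_orderOf_dvd_card' (G := Spor.J4) q (by rw [hc]; exact hd)
    refine ⟨x, hx, ?_⟩
    rw [mul_one, ← h (zpowers x) (by rw [Nat.card_zpowers, hx]), zpowers_eq_closure, centralizer_closure]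
  refine ctx_of_primes (L := L) (Cs := []) hc (by norm_num) (by decide +kernel) (by decide +kernel)
    (by decide +kernel) ?_ (by simp)
  intro D hD
  simp only [Ds, List.mem_cons, List.not_mem_nil, or_false] at hD
  rcases hD with rfl | rfl | rfl | rfl | rfl
  · exact key 29 (by norm_num) (by norm_num) fun P hP => (H859.BigNum.data29' hP).1
  · exact key 43 (by norm_num) (by norm_num) fun P hP => (H859.BigNum.data43 hP).1
  · exact key 23 (by norm_num) (by norm_num) fun P hP => (H859.BigNum.data23 hP).1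
  · exact key 37 (by norm_num) (by norm_num) fun P hP => (H859.BigNum.data37 hP).1
  · exact key 31 (by norm_num) (by norm_num) fun P hP => (H859.BigNum.data31 hP).1

/-- the degrees -/
theorem cl {m : ℕ} (hm : m ∈ [27, 1331, 7, 23, 29, 31, 37, 43]) :
    ∃ χ : IrrCharacter Spor.J4, m ∣ charDegree (χ : Spor.J4 → ℂ) := by
  classical
  have hf : Finite Spor.J4 := Cfsg.Agent.H858.FixJ4.facts.1
  have := finite_irr (G := Spor.J4)
  have := Fintype.ofFinite (IrrCharacter Spor.J4)
  rw [show [27, 1331, 7, 23, 29, 31, 37, 43] = cts.map Fast.Cert.m from rfl, List.mem_map] at hm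
  obtain ⟨c, hc, rfl⟩ := hm
  obtain ⟨χ, -, hχ⟩ := Fast.cl_of_chkAll ctx mask_ok head_ok chk_ok hc
  exact ⟨χ, hχ⟩

/-- a degree divisible by the `p`-part -/
theorem nb_of_dvd {G : Type*} [Group G] [Finite G] {p a : ℕ} [hp : Fact p.Prime] (ha : a ≠ 0)
    (hG : ¬ p ^ (a + 1) ∣ Nat.card G) (h : ∃ χ : IrrCharacter G, p ^ a ∣ charDegree (χ : G → ℂ)) : NB p G := by
  obtain ⟨χ, hχ⟩ := h
  refine NB.of_dz' χ ?_ ?_
  · intro h1
    rw [h1, Nat.dvd_one] at hχ
    have := Nat.one_lt_pow ha hp.out.one_lt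
    omega
  · intro h1
    apply hG
    have h2 := Blocks.CyclicUpper.charDegree_dvd χ.2
    rw [pow_succ, ← Nat.mul_div_cancel' h2]
    exact mul_dvd_mul hχ h1

/-- **`J₄` has a nonprincipal `p`-block, `p` odd.** -/
theorem nb_j4 {p : ℕ} [hp : Fact p.Prime] (h2 : p ≠ 2) (S : Type) [Group S] [Finite S] [IsSimpleGroup S]
    (h : Cfsg.Spor.IsoJ4 S) (ih : IH p (Nat.card S)) : NB p S := by
  obtain ⟨e⟩ := h
  have hf : Finite Spor.J4 := Cfsg.Agent.H858.FixJ4.facts.1
  have hc : Nat.card Spor.J4 = 86775571046077562880 := Cfsg.Agent.H858.FixJ4.card_J4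
  have hcS : Nat.card S = 86775571046077562880 := by rw [Nat.card_congr e.toEquiv, hc]
  by_cases hd : p ∣ Nat.card S
  swap
  · exact NB.of_not_dvd hd
  have hpr := hp.out
  have hfac : p = 2 ∨ p = 3 ∨ p = 5 ∨ p = 7 ∨ p = 11 ∨ p = 23 ∨ p = 29 ∨ p = 31 ∨ p = 37 ∨ p = 43 := by
    have h3 : p ∣ facProd L := by
      rw [show facProd L = 86775571046077562880 by decide +kernel, ← hcS]; exact hd
    have h4 := mem_of_facProd (L := L) (by decide +kernel) hpr h3
    simp only [L, List.map_cons, List.map_nil, List.mem_cons, List.not_mem_nil, or_false] at h4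
    tauto
  have hna : ¬ IsMulCommutative S := by
    intro h
    let _ : CommGroup S := { (inferInstance : Group S) with mul_comm := fun a b => h.is_comm.comm a b }
    have h1 : (Nat.card S).Prime := IsSimpleGroup.prime_card
    rw [hcS] at h1
    exact absurd h1 (by norm_num)
  have go : ∀ a : ℕ, a ≠ 0 → ¬ p ^ (a + 1) ∣ 86775571046077562880 → p ^ a ∈ [27, 1331, 7, 23, 29, 31, 37, 43] →
      NB p S := fun a ha h3 h4 => NB.iso e.symm (nb_of_dvd ha (by rw [hc]; exact h3) (cl h4))
  rcases hfac with rfl | rfl | rfl | rfl | rfl | rfl | rfl | rfl | rfl | rfl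
  · exact absurd rfl h2
  · exact go 3 (by norm_num) (by norm_num) (by norm_num)
  · obtain ⟨x, hx⟩ := Cfsg.Agent.H723.Spor.MOrders.order15
    refine Cfsg.Agent.H978.NB.nb_of_order (a := 1) (r := 3) hna ih (by norm_num) (by norm_num)
      ⟨e.symm (Cfsg.Agent.J4.Pres.phi x), ?_⟩ (by rw [hcS]; norm_num) (by intro j h1 h3; omega)
    rw [MulEquiv.orderOf_eq, orderOf_injective _ Cfsg.Agent.H49.JFourThree.phi_injective, hx]
  · exact go 1 (by norm_num) (by norm_num) (by norm_num)
  · exact go 3 (by norm_num) (by norm_num) (by norm_num)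
  · exact go 1 (by norm_num) (by norm_num) (by norm_num)
  · exact go 1 (by norm_num) (by norm_num) (by norm_num)
  · exact go 1 (by norm_num) (by norm_num) (by norm_num)
  · exact go 1 (by norm_num) (by norm_num) (by norm_num)
  · exact go 1 (by norm_num) (by norm_num) (by norm_num)

end Cfsg.Agent.H590.NB.J4
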