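import Cfsg.Agent.H653.Sieve.Main

/-!
# A faster check of several certificates of the sieve at once (helper590)

The residues of the degree modulo the primes of the columns are tested first (bit masks), and the divisors of the group
order are enumerated once for all the certificates.
-/

set_option autoImplicit false
set_option linter.unusedSectionVars false

namespace Cfsg.Agent.H590.NB.Fast

open Cfsg Cfsg.Agent.Characters.Core Cfsg.Agent.H653.Sys Cfsg.Agent.H653.Sieve Cfsg.Agent.H653.Graph

universe u

/-- the bit `r` of the mask -/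
def bit (m r : ℕ) : Bool := Nat.beq (Nat.land (Nat.shiftRight m r) 1) 1

/-- the residues are admissible -/
def pre : List (ℕ × ℕ) → ℕ → Bool
  | [], _ => true
  | (p, m) :: L, d => bif bit m (d % p) then pre L d else false

/-- the masks contain the admissible residues -/
def maskOK : List PD → List (ℕ × ℕ) → Bool
  | D :: Ds, (p, m) :: L => Nat.beq D.p p && (Nat.ble 1 p && ((List.range p).all fun r => bit m r || (pick r D.wl).isEmpty)) &&
      maskOK Ds L
  | [], [] => true
  | _, _ => false

theorem allV_of_empty : ∀ {Fs : List Fam} {d : ℕ} {F : Fam} (_ : F ∈ Fs) (_ : F.vals d = []) (k : List ℤ → Bool),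
    allV Fs d k = true
  | G :: Fs, d, F, hF, h, k => by
    rw [allV]
    rcases List.mem_cons.1 hF with rfl | hF
    · rw [h]; rfl
    · rw [List.all_eq_true]
      intro u _
      exact allV_of_empty hF h _

theorem exists_empty : ∀ {Ds : List PD} {ms : List (ℕ × ℕ)} (_ : maskOK Ds ms = true) {d : ℕ} (_ : pre ms d = false),
    ∃ F ∈ Ds.map PD.fam, F.vals d = []
  | [], [], _, d, h => by simp [pre] at h
  | [], _ :: _, h0, d, h => by simp [maskOK] at h0
  | _ :: _, [], h0, d, h => by simp [maskOK] at h0
  | D :: Ds, (p, m) :: ms, h0, d, h => by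
    simp only [maskOK, Bool.and_eq_true] at h0
    obtain ⟨⟨h1, h2, h3⟩, h4⟩ := h0
    have h1' := Nat.eq_of_beq_eq_true h1
    have h2' := Nat.le_of_ble_eq_true h2
    rw [pre] at h
    cases hb : bit m (d % p) with
    | false =>
      refine ⟨D.fam, by simp, ?_⟩
      rw [List.all_eq_true] at h3
      have h5 := h3 (d % p) (List.mem_range.2 (Nat.mod_lt _ (by omega)))
      rw [hb, Bool.false_or, List.isEmpty_iff] at h5
      change pick (d % D.p) D.wl = []
      rw [h1', h5]
    | true =>
      rw [hb, cond_true] at h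
      obtain ⟨F, hF, h5⟩ := exists_empty h4 h
      exact ⟨F, by rw [List.map_cons]; exact List.mem_cons_of_mem _ hF, h5⟩

/-- a certificate: the modulus, and the coefficients -/
structure Cert where
  m : ℕ
  a : ℤ
  cs : List Cf

def Cert.Q (c : Cert) (d : ℕ) : Bool := Nat.beq (d % c.m) 0

def okAll (N : ℕ) (Fs : List Fam) (d : ℕ) : List Cert → Bool
  | [] => true
  | c :: L => okD N c.a c.cs [] Fs c.Q d && okAll N Fs d L

theorem okAll_spec {N : ℕ} {Fs : List Fam} {d : ℕ} : ∀ {L : List Cert}, okAll N Fs d L = true → ∀ c ∈ L,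
    okD N c.a c.cs [] Fs c.Q d = true
  | [], _, c, hc => by simp at hc
  | c' :: L, h, c, hc => by
    rw [okAll, Bool.and_eq_true] at h
    rcases List.mem_cons.1 hc with rfl | hc
    · exact h.1
    · exact okAll_spec h.2 c hc

/-- the check -/
def chkAll (N : ℕ) (L : List (ℕ × ℕ)) (Ds : List PD) (ms : List (ℕ × ℕ)) (cts : List Cert) : Bool :=
  allDiv N (fun d => bif pre ms d then okAll N (Ds.map PD.fam) d cts else true) L 1

def headOK (N : ℕ) (Ds : List PD) (cts : List Cert) : Bool :=
  cts.all fun c => certOK N c.a c.cs [] (Ds.map PD.fam)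

variable {S : Type u} [Group S] [Fintype (IrrCharacter S)] {lab : S → ℕ} {N : ℕ} {L : List (ℕ × ℕ)}

/-- **All the certificates at once.** -/
theorem cl_of_chkAll [Finite S] {Ds : List PD} (C : Ctx S lab N L (Ds.map PD.fam) []) {ms : List (ℕ × ℕ)}
    (hm : maskOK Ds ms = true) {cts : List Cert} (h1 : headOK N Ds cts = true) (h2 : chkAll N L Ds ms cts = true)
    {c : Cert} (hc : c ∈ cts) : ∃ χ : IrrCharacter S, (χ : S → ℂ) ≠ 1 ∧ c.m ∣ charDegree (χ : S → ℂ) := by
  obtain ⟨Ws, hs⟩ := C.sys
  have hpr : ∀ pa ∈ L, pa.1.Prime := by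
    intro pa hpa
    have := List.all_eq_true.1 C.pr pa hpa
    simpa using this
  obtain ⟨χ, h3, h4⟩ := exists_of_all C.conj C.lone N C.card C.one hs [] (by simp) c.a c.cs c.Q
    (List.all_eq_true.1 h1 c hc) fun d hd hlt => by
      have h5 := allDiv_spec hpr h2 d (by rw [C.fac]; exact hd) (by rwa [one_mul])
      rw [one_mul] at h5
      cases hp : pre ms d with
      | true =>
        rw [hp, cond_true] at h5
        exact okAll_spec h5 c hc
      | false =>
        obtain ⟨F, hF, h6⟩ := exists_empty hm hp
        rw [H653.Sys.okD]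
        cases Nat.ble N (d * d) with
        | true => rfl
        | false =>
          cases Nat.beq d 1 with
          | true => rfl
          | false =>
            rw [cond_false, cond_false]
            exact allV_of_empty hF h6 _
  exact ⟨χ, h3, Nat.dvd_of_mod_eq_zero (Nat.eq_of_beq_eq_true h4)⟩

end Cfsg.Agent.H590.NB.Fast
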