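import Cfsg.Agent.H590.NB.Fast

/-!
# Certificates: character degrees of the fourth Janko group (helper590, S5003)

Columns at the elements of order 43, 37, 31, 29, 23 (self-centralising subgroups of prime order).
-/

set_option autoImplicit false
set_option maxRecDepth 100000

namespace Cfsg.Agent.H590.NB.J4

open Cfsg Cfsg.Agent.Characters.Core Cfsg.Agent.H653.Sys Cfsg.Agent.H653.Sieve Cfsg.Agent.H653.Graph
open Cfsg.Agent.H590.NB.Fast

universe u

def N : ℕ := 86775571046077562880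
def L : List (ℕ × ℕ) := [(43, 1), (37, 1), (31, 1), (29, 1), (23, 1), (11, 3), (7, 1), (5, 1), (3, 3), (2, 21)]
def Ds : List PD :=
  [⟨29, 1, 28, 1, [(0, 0), (1, 1), (28, -1)], 29, 0, false⟩,
   ⟨43, 1, 14, 3, [(0, 0), (1, 3), (14, -1), (29, 1), (42, -3)], 129, 3, true⟩,
   ⟨23, 1, 22, 1, [(0, 0), (1, 1), (22, -1)], 23, 0, false⟩,
   ⟨37, 1, 12, 3, [(0, 0), (1, 3), (12, -1), (25, 1), (36, -3)], 111, 3, true⟩,
   ⟨31, 1, 10, 3, [(0, 0), (1, 3), (10, -1), (21, 1), (30, -3)], 93, 3, true⟩]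
def ms : List (ℕ × ℕ) := [(29, 268435459), (43, 4398583398403), (23, 4194307), (37, 68753035267), (31, 1075840003)]

def cts : List Cert :=
  [⟨27, 0, [⟨0, 0, 0, [10, 0, 0, 0]⟩, ⟨0, 0, 10, [0, 3, 0]⟩, ⟨0, 0, 0, [0, 0]⟩, ⟨0, 0, 0, [0]⟩, ⟨0, 0, 0, []⟩]⟩,
   ⟨1331, 0, [⟨0, 0, 0, [0, 0, 0, 0]⟩, ⟨0, 0, 0, [0, 1, 0]⟩, ⟨0, 0, 0, [0, 0]⟩, ⟨0, 0, 0, [0]⟩, ⟨0, 0, 0, []⟩]⟩,
   ⟨7, 0, [⟨0, 0, 0, [0, 1, 0, 100]⟩, ⟨0, 0, 0, [0, 0, 0]⟩, ⟨0, 0, 0, [0, 0]⟩, ⟨0, 0, 0, [0]⟩, ⟨0, 0, 100, []⟩]⟩,
   ⟨23, 0, [⟨321295, -32171808714860, 0, [247250648664020, 32171808714860, 648336971267, 720721084376122]⟩, ⟨-101984, -183568060267105, -584609555272029, [-217403191035402, 99447606633125, -157597506206757]⟩, ⟨18167, 1000000000000000, 0, [320419754504893, 10706746302559]⟩, ⟨196603, -4088451031448, -533860239344098, [-72699028585685]⟩, ⟨-11643, -107605012066114, -727961884440613, []⟩]⟩,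
   ⟨29, 0, [⟨-6444, 810489302072573, 0, [-75644470465976, -5334446246597, -249536896408185, 69705453502912]⟩, ⟨-11410, -64834176536355, 6964124223607, [17863455158539, 223231577846262, 10313470644439]⟩, ⟨-56534, -805098937138626, 0, [248537316981888, 52070920105294]⟩, ⟨555723, -339662583422, -1000000000000000, [11873672350812]⟩, ⟨10808, -69705453502912, 184801988384204, []⟩]⟩,
   ⟨31, 0, [⟨61439, -59324370950738, 0, [19885866063222, 34443330374011, 21553474591993, 35453092695544]⟩, ⟨20045, -38929662114846, -82350054482337, [21026096376234, 16282529768791, 1730953309803]⟩, ⟨-7412, -9742802779445, 0, [4858531148593, 100000000000000]⟩, ⟨326528, -5137266456830, 30016370983684, [14268022849568]⟩, ⟨3639, 37212738336302, 82350054482337, []⟩]⟩,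
   ⟨37, 0, [⟨-1357872, -4430809922803, 0, [1000000000000000, 4430809922803, 38617952378233, 67572922645723]⟩, ⟨108964, -98795362166781, -77446024426791, [-286083847808491, 55641908261607, -42966224296538]⟩, ⟨126242, -7150488189023, 0, [68307915856497, 132174960024023]⟩, ⟨5040, 36436270108418, 530025128696355, [56527560509887]⟩, ⟨-80110, -6834121584992, -151796328059225, []⟩]⟩,
   ⟨43, 0, [⟨-97936, -25538331025924, 0, [-68680229221380, -127863254418176, 1000000000000000, 9004410764375]⟩, ⟨184, 25743847943890, 198325093461746, [67027583623043, 8230445495754, -643398535690]⟩, ⟨65701, -30592377079982, 0, [189866290777770, 4349954823805]⟩, ⟨17768, -12941720461055, -9216020888894, [4714906163559]⟩, ⟨5302, -25097198927281, -26028197250951, []⟩]⟩]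

theorem mask_ok : maskOK Ds ms = true := by decide +kernel

theorem head_ok : headOK N Ds cts = true := by decide +kernel

theorem chk_ok : chkAll N L Ds ms cts = true := by decide +kernel

end Cfsg.Agent.H590.NB.J4
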